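import Cfsg.Agent.Lib.PermGp.ZassenhausEven.Kernel
import Mathlib.GroupTheory.GroupAction.MultipleTransitivity
import Mathlib.GroupTheory.GroupAction.Quotient

/-!
# Two-point stabilisers of Zassenhaus groups
-/

set_option autoImplicit false
set_option linter.all false

namespace Cfsg.Agent.ZassSharp

open MulAction PermGp.ZEven

variable {G Ω : Type*} [Group G] [MulAction G Ω] [Finite G] [Fintype Ω] {a b : Ω}

theorem semi (Z : ZGrp G Ω) (hab : a ≠ b) {g : G} (hg : g ∈ stabilizer G a ⊓ stabilizer G b) {c : Ω}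
    (hca : c ≠ a) (hcb : c ≠ b) (hc : g • c = c) : g = 1 :=
  Z.three g a b c hab hcb.symm hca.symm (mem_stabilizer_iff.mp (Subgroup.mem_inf.mp hg).1)
    (mem_stabilizer_iff.mp (Subgroup.mem_inf.mp hg).2) hc

theorem smul_ne (Z : ZGrp G Ω) (hab : a ≠ b) {g : G} (hg : g ∈ stabilizer G a ⊓ stabilizer G b)
    {c : Ω} (hca : c ≠ a) (hcb : c ≠ b) : g • c ≠ a ∧ g • c ≠ b := by
  have ha := mem_stabilizer_iff.mp (Subgroup.mem_inf.mp hg).1
  have hb := mem_stabilizer_iff.mp (Subgroup.mem_inf.mp hg).2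
  exact ⟨fun h => hca (MulAction.injective g (h.trans ha.symm)),
    fun h => hcb (MulAction.injective g (h.trans hb.symm))⟩

theorem card_dvd (Z : ZGrp G Ω) (hab : a ≠ b) :
    Nat.card ↥(stabilizer G a ⊓ stabilizer G b) ∣ Fintype.card Ω - 2 := by
  classical
  set H := stabilizer G a ⊓ stabilizer G b
  let X : SubMulAction H Ω :=
    { carrier := {c | c ≠ a ∧ c ≠ b}
      smul_mem' := fun g c hc => smul_ne Z hab g.2 hc.1 hc.2 }
  haveI : Fintype H := Fintype.ofFinite H
  haveI : Fintype X := Fintype.ofFinite X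
  haveI : Fintype (orbitRel.Quotient H X) := Fintype.ofFinite _
  have hst : ∀ x : X, Nat.card (stabilizer H x) = 1 := fun x => by
    rw [Subgroup.card_eq_one]
    rw [Subgroup.eq_bot_iff_forall]
    intro g hg
    exact Subtype.ext (semi Z hab g.2 x.2.1 x.2.2 (congrArg Subtype.val (mem_stabilizer_iff.mp hg)))
  have hX : Nat.card X = Fintype.card Ω - 2 := by
    show Nat.card {c : Ω // c ≠ a ∧ c ≠ b} = _
    rw [Nat.card_eq_fintype_card, Fintype.card_subtype,
      show Finset.univ.filter (fun c => c ≠ a ∧ c ≠ b) = ({a, b} : Finset Ω)ᶜ by ext c; simp,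
      Finset.card_compl, Finset.card_pair hab]
  rw [← hX, Nat.card_congr (MulAction.selfEquivSigmaOrbitsQuotientStabilizer H X), Nat.card_sigma]
  refine Finset.dvd_sum fun q _ => dvd_of_eq ?_
  have h := (stabilizer H q.out).index_mul_card
  rw [hst, mul_one] at h
  exact h.symm

/-- A regular two-point stabiliser makes the group transitive on triples. -/
theorem exists_triple (Z : ZGrp G Ω) (hab : a ≠ b)
    (hd : Nat.card ↥(stabilizer G a ⊓ stabilizer G b) = Fintype.card Ω - 2) {c : Ω} (hca : c ≠ a)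
    (hcb : c ≠ b) {x y z : Ω} (hxy : x ≠ y) (hxz : x ≠ z) (hyz : y ≠ z) :
    ∃ g : G, g • x = a ∧ g • y = b ∧ g • z = c := by
  classical
  obtain ⟨g, hgx, hgy⟩ := PermGp.two_trans_exists Z.two hxy hab
  set H := stabilizer G a ⊓ stabilizer G b
  have hne : g • z ≠ a ∧ g • z ≠ b :=
    ⟨fun h => hxz (MulAction.injective g (hgx.trans h.symm)),
      fun h => hyz (MulAction.injective g (hgy.trans h.symm))⟩
  let f : H → {w : Ω // w ≠ a ∧ w ≠ b} := fun k => ⟨(k : G) • (g • z), smul_ne Z hab k.2 hne.1 hne.2⟩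
  have hinj : Function.Injective f := fun k l h => by
    have h' : (k : G) • (g • z) = (l : G) • (g • z) := congrArg Subtype.val h
    have := semi Z hab (H.mul_mem (H.inv_mem l.2) k.2) hne.1 hne.2 (by
      rw [mul_smul, h', inv_smul_smul])
    exact Subtype.ext (inv_mul_eq_one.mp this).symm
  have hcard : Nat.card {w : Ω // w ≠ a ∧ w ≠ b} = Nat.card H := by
    rw [hd, Nat.card_eq_fintype_card, Fintype.card_subtype,
      show Finset.univ.filter (fun c => c ≠ a ∧ c ≠ b) = ({a, b} : Finset Ω)ᶜ by ext c; simp,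
      Finset.card_compl, Finset.card_pair hab]
  obtain ⟨k, hk⟩ := (hinj.bijective_of_nat_card_le hcard.le).surjective ⟨c, hca, hcb⟩
  exact ⟨k * g, by rw [mul_smul, hgx]; exact mem_stabilizer_iff.mp (Subgroup.mem_inf.mp k.2).1,
    by rw [mul_smul, hgy]; exact mem_stabilizer_iff.mp (Subgroup.mem_inf.mp k.2).2,
    by rw [mul_smul]; exact congrArg Subtype.val hk⟩

theorem sharp (Z : ZGrp G Ω) (hab : a ≠ b)
    (hd : Nat.card ↥(stabilizer G a ⊓ stabilizer G b) = Fintype.card Ω - 2) :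
    IsMultiplyPretransitive G Ω 3 ∧ ∀ t : Fin 3 ↪ Ω, stabilizer G t = ⊥ := by
  classical
  obtain ⟨c, hca, hcb⟩ := Z.exists_third a b
  have hne : ∀ (t : Fin 3 ↪ Ω) {i j : Fin 3}, i ≠ j → t i ≠ t j := fun t i j h e => h (t.injective e)
  refine ⟨⟨fun t u => ?_⟩, fun t => ?_⟩
  · obtain ⟨g, g0, g1, g2⟩ := exists_triple Z hab hd hca hcb (hne t (show (0 : Fin 3) ≠ 1 by decide))
      (hne t (show (0 : Fin 3) ≠ 2 by decide)) (hne t (show (1 : Fin 3) ≠ 2 by decide))
    obtain ⟨k, k0, k1, k2⟩ := exists_triple Z hab hd hca hcb (hne u (show (0 : Fin 3) ≠ 1 by decide))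
      (hne u (show (0 : Fin 3) ≠ 2 by decide)) (hne u (show (1 : Fin 3) ≠ 2 by decide))
    refine ⟨k⁻¹ * g, Function.Embedding.ext fun i => ?_⟩
    show (k⁻¹ * g) • t i = u i
    rw [mul_smul]
    fin_cases i
    · exact inv_smul_eq_iff.mpr (g0.trans k0.symm)
    · exact inv_smul_eq_iff.mpr (g1.trans k1.symm)
    · exact inv_smul_eq_iff.mpr (g2.trans k2.symm)
  · rw [Subgroup.eq_bot_iff_forall]
    intro g hg
    have h := fun i => DFunLike.congr_fun (mem_stabilizer_iff.mp hg) i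
    exact Z.three g (t 0) (t 1) (t 2) (hne t (by decide)) (hne t (by decide)) (hne t (by decide))
      (h 0) (h 1) (h 2)

theorem card_pairs (hab : a ≠ b) (Z : ZGrp G Ω) :
    (stabilizer G a ⊓ stabilizer G b).index = Fintype.card Ω * (Fintype.card Ω - 1) := by
  classical
  let X : SubMulAction G (Ω × Ω) :=
    { carrier := {p | p.1 ≠ p.2}
      smul_mem' := fun g p hp h => hp (MulAction.injective g h) }
  haveI : IsPretransitive G X := ⟨fun p q => by
    obtain ⟨g, h1, h2⟩ := PermGp.two_trans_exists Z.two p.2 q.2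
    exact ⟨g, Subtype.ext (Prod.ext h1 h2)⟩⟩
  have hst : stabilizer G (⟨(a, b), hab⟩ : X) = stabilizer G a ⊓ stabilizer G b := by
    ext g
    rw [mem_stabilizer_iff, Subgroup.mem_inf, mem_stabilizer_iff, mem_stabilizer_iff]
    exact ⟨fun h => ⟨congrArg (fun p : X => p.1.1) h, congrArg (fun p : X => p.1.2) h⟩,
      fun h => Subtype.ext (Prod.ext h.1 h.2)⟩
  rw [← hst, index_stabilizer_of_transitive]
  show Nat.card {p : Ω × Ω // p.1 ≠ p.2} = _
  rw [Nat.card_eq_fintype_card, Fintype.card_subtype,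
    show Finset.univ.filter (fun p : Ω × Ω => p.1 ≠ p.2) = Finset.univ.offDiag by ext; simp,
    Finset.offDiag_card, Finset.card_univ, Nat.mul_sub, mul_one]

end Cfsg.Agent.ZassSharp
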