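import Mathlib.GroupTheory.Transfer
import Mathlib.GroupTheory.PGroup
import Mathlib.GroupTheory.Perm.Cycle.Type
import Mathlib.GroupTheory.Subgroup.Simple

/-!
# Sign characters from the transfer and from permutations
-/

set_option autoImplicit false
set_option linter.all false

namespace Cfsg.Agent.ZassSharp

open MulAction

variable {G : Type*} [Group G] [Finite G]

theorem transfer_eq_neg_one (T : Subgroup G) (hT : Odd T.index) (ε : T →* ℤˣ) (h : G)
    (hh : IsPGroup 2 (Subgroup.zpowers h))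
    (h1 : ∀ g : G, ∀ hm : g⁻¹ * h * g ∈ T, ε ⟨_, hm⟩ = -1)
    (h2 : ∀ (g : G) (i : ℕ), ∀ hm : g⁻¹ * h ^ 2 ^ (i + 1) * g ∈ T, ε ⟨_, hm⟩ = 1) :
    MonoidHom.transfer ε h = -1 := by
  classical
  haveI : Fact (Nat.Prime 2) := ⟨Nat.prime_two⟩
  haveI : Fintype (Quotient (orbitRel (Subgroup.zpowers h) (G ⧸ T))) := Fintype.ofFinite _
  rw [MonoidHom.transfer_eq_prod_quotient_orbitRel_zpowers_quot]
  set Q := Quotient (orbitRel (Subgroup.zpowers h) (G ⧸ T))
  let k : Q → ℕ := fun q => Function.minimalPeriod (h • ·) q.out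
  have hterm : ∀ q : Q, ε ⟨q.out.out⁻¹ * h ^ k q * q.out.out,
      QuotientGroup.out_conj_pow_minimalPeriod_mem T h q.out⟩ = if k q = 1 then -1 else 1 := by
    intro q
    obtain ⟨i, hi⟩ : ∃ i, k q = 2 ^ i := by
      haveI := Fintype.ofFinite (orbit (Subgroup.zpowers h) q.out)
      obtain ⟨i, hi⟩ := hh.card_orbit q.out
      refine ⟨i, ?_⟩
      rw [← hi, Nat.card_eq_fintype_card]
      haveI := Fintype.ofFinite (MulAction.orbit (Subgroup.zpowers h) q.out)
      convert @MulAction.minimalPeriod_eq_card G (G ⧸ T) _ h _ q.out (Fintype.ofFinite _) <;> exact MulAction.ext (funext fun _ => funext fun _ => rfl)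
    rcases i with _ | i
    · rw [if_pos (by rw [hi, pow_zero])]
      have e : q.out.out⁻¹ * h ^ k q * q.out.out = q.out.out⁻¹ * h * q.out.out := by
        rw [hi, pow_zero, pow_one]
      have hm := QuotientGroup.out_conj_pow_minimalPeriod_mem T h q.out
      exact (congrArg ε (Subtype.ext e)).trans (h1 _ (e ▸ hm))
    · rw [if_neg (by rw [hi]; exact (Nat.one_lt_two_pow (Nat.succ_ne_zero i)).ne')]
      have hm := QuotientGroup.out_conj_pow_minimalPeriod_mem T h q.out
      have e : q.out.out⁻¹ * h ^ k q * q.out.out = q.out.out⁻¹ * h ^ 2 ^ (i + 1) * q.out.out := by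
        rw [hi]
      exact (congrArg ε (Subtype.ext e)).trans (h2 _ i (e ▸ hm))
  rw [Finset.prod_congr rfl fun q _ => hterm q, Finset.prod_ite, Finset.prod_const_one, mul_one,
    Finset.prod_const]
  refine Odd.neg_one_pow ?_
  have hmem : ∀ x : G ⧸ T, x ∈ fixedPoints (Subgroup.zpowers h) (G ⧸ T) ↔ h • x = x := by
    intro x
    refine ⟨fun hx => hx ⟨h, Subgroup.mem_zpowers h⟩, fun hx => ?_⟩
    rintro ⟨_, n, rfl⟩
    exact smul_eq_self_of_mem_zpowers (Subgroup.zpow_mem_zpowers h n) hx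
  have hbij : Nat.card (fixedPoints (Subgroup.zpowers h) (G ⧸ T)) =
      Nat.card {q : Q // k q = 1} := by
    refine Nat.card_congr
      { toFun := fun x => ⟨Quotient.mk _ x.1, ?_⟩
        invFun := fun q => ⟨q.1.out, (hmem _).mpr (Function.minimalPeriod_eq_one_iff_isFixedPt.mp q.2)⟩
        left_inv := fun x => ?_
        right_inv := fun q => Subtype.ext (Quotient.out_eq q.1) }
    · have hout : (Quotient.mk (orbitRel (Subgroup.zpowers h) (G ⧸ T)) x.1).out = x.1 := by
        obtain ⟨g, hg⟩ := Quotient.exact (Quotient.out_eq (Quotient.mk (orbitRel (Subgroup.zpowers h) (G ⧸ T)) x.1))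
        exact hg.symm.trans (x.2 g)
      show Function.minimalPeriod (h • ·) _ = 1
      rw [hout]
      exact Function.minimalPeriod_eq_one_iff_isFixedPt.mpr ((hmem _).mp x.2)
    · obtain ⟨g, hg⟩ := Quotient.exact (Quotient.out_eq (Quotient.mk (orbitRel (Subgroup.zpowers h) (G ⧸ T)) x.1))
      exact Subtype.ext (hg.symm.trans (x.2 g))
  have hmod := hh.card_modEq_card_fixedPoints (G ⧸ T)
  rw [← Subgroup.index_eq_card, hbij, Nat.card_eq_fintype_card, Fintype.card_subtype] at hmod
  rw [Nat.odd_iff] at hT ⊢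
  convert (show _ % 2 = T.index % 2 from hmod.symm).trans hT using 4
  exact Finset.ext fun _ => by simp

theorem monoidHom_eq_one [IsSimpleGroup G] (f : G →* ℤˣ) (h3 : 3 ≤ Nat.card G) : f = 1 := by
  rcases IsSimpleGroup.eq_bot_or_eq_top_of_normal f.ker (MonoidHom.normal_ker f) with h | h
  · exfalso
    have := Nat.card_le_card_of_injective f ((MonoidHom.ker_eq_bot_iff f).mp h)
    have h2 : Nat.card ℤˣ = 2 := by simp
    omega
  · exact MonoidHom.ker_eq_top_iff.mp h

theorem sign_of_involution {α : Type*} [Fintype α] [DecidableEq α] (σ : Equiv.Perm α) (h : σ ^ 2 = 1) :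
    Equiv.Perm.sign σ = (-1) ^ (σ.support.card / 2) := by
  have hall : ∀ m ∈ σ.cycleType, m = 2 := fun m hm => by
    have h1 := Equiv.Perm.dvd_of_mem_cycleType hm
    have h2 := Equiv.Perm.two_le_of_mem_cycleType hm
    have h3 : orderOf σ ∣ 2 := orderOf_dvd_of_pow_eq_one h
    exact le_antisymm (Nat.le_of_dvd two_pos (h1.trans h3)) h2
  have hrep : σ.cycleType = Multiset.replicate σ.cycleType.card 2 := Multiset.eq_replicate_card.mpr hall
  have hs : σ.cycleType.sum = 2 * Multiset.card σ.cycleType := by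
    conv_lhs => rw [hrep]
    simp [mul_comm]
  rw [Equiv.Perm.sign_of_cycleType, ← Equiv.Perm.sum_cycleType, hs,
    Nat.mul_div_cancel_left _ two_pos, pow_add, pow_mul, neg_one_sq, one_pow, one_mul]

end Cfsg.Agent.ZassSharp
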