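import Cfsg.Agent.Lib.ZassSharp.Basic
import Cfsg.Agent.Lib.ZassSharp.Transfer
import Cfsg.Agent.S0729

/-!
# A sharply triply transitive group of even degree is not simple
-/

set_option autoImplicit false
set_option linter.all false

namespace Cfsg.Agent.ZassSharp

open MulAction PermGp.ZEven

universe u v

variable {G : Type u} {Ω : Type v} [Group G] [MulAction G Ω] [Finite G] [Fintype Ω] {a b : Ω}

/-- The two-point stabiliser has a single involution. -/
theorem involution_unique {F : Subgroup G} (hF : ZKer a F) (Z : ZGrp G Ω) (hab : a ≠ b) {z z' : G}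
    (hz : z ∈ stabilizer G a ⊓ stabilizer G b) (hz2 : z * z = 1) (hz1 : z ≠ 1)
    (hz' : z' ∈ stabilizer G a ⊓ stabilizer G b) (hz2' : z' * z' = 1) (hz1' : z' ≠ 1) : z = z' := by
  classical
  have hinv : ∀ w : G, w ∈ stabilizer G a ⊓ stabilizer G b → w * w = 1 → w ≠ 1 →
      ∀ v ∈ F, w * v * w = v⁻¹ := by
    intro w hw hw2 hw1
    have hwi : w⁻¹ = w := inv_eq_of_mul_eq_one_right hw2
    have hwa := mem_stabilizer_iff.mp (Subgroup.mem_inf.mp hw).1
    have hwb := mem_stabilizer_iff.mp (Subgroup.mem_inf.mp hw).2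
    have hmem : ∀ v ∈ F, w * v * w ∈ F := fun v hv => by
      have := hF.conj w hwa v hv
      rwa [hwi] at this
    let ψ : F → F := fun v => ⟨(v : G)⁻¹ * (w * v * w), F.mul_mem (F.inv_mem v.2) (hmem v v.2)⟩
    have hψ : Function.Injective ψ := fun v u h => by
      have h' : (v : G)⁻¹ * (w * v * w) = (u : G)⁻¹ * (w * u * w) := congrArg Subtype.val h
      have h'' : (u : G) * (v : G)⁻¹ = w * ((u : G) * (v : G)⁻¹) * w⁻¹ := by
        rw [hwi]
        calc (u : G) * (v : G)⁻¹ = u * ((v : G)⁻¹ * (w * v * w)) * (w * v * w)⁻¹ := by group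
          _ = u * ((u : G)⁻¹ * (w * u * w)) * (w * v * w)⁻¹ := by rw [h']
          _ = w * (u * (v : G)⁻¹) * w⁻¹ := by group
          _ = w * (u * (v : G)⁻¹) * w := by rw [hwi]
      by_contra hne
      exact hw1 (hF.fpf Z hab hwa hwb (F.mul_mem u.2 (F.inv_mem v.2))
        (fun e => hne (Subtype.ext (mul_inv_eq_one.mp e).symm)) h''.symm)
    intro v hv
    obtain ⟨x, hx⟩ := (Finite.injective_iff_surjective.mp hψ) ⟨v, hv⟩
    have hx' : (x : G)⁻¹ * (w * x * w) = v := congrArg Subtype.val hx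
    rw [← hx', mul_inv_rev, inv_inv, mul_inv_rev, mul_inv_rev, hwi]
    calc w * ((x : G)⁻¹ * (w * x * w)) * w = w * (x : G)⁻¹ * w * x * (w * w) := by group
      _ = w * ((x : G)⁻¹ * w) * x := by rw [hw2]; group
  obtain ⟨c, hca, hcb⟩ := Z.exists_third a b
  obtain ⟨u, hu, huc⟩ := hF.exists_eq b c hab.symm hca
  have hu1 : u ≠ 1 := fun e => hcb (by rw [← huc, e, one_smul])
  have h1 := hinv z hz hz2 hz1 u hu
  have h2 := hinv z' hz' hz2' hz1' u hu
  have hzi : z⁻¹ = z := inv_eq_of_mul_eq_one_right hz2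
  have hzi' : z'⁻¹ = z' := inv_eq_of_mul_eq_one_right hz2'
  have hm := Subgroup.mem_inf.mp ((stabilizer G a ⊓ stabilizer G b).mul_mem hz' hz)
  have := hF.fpf Z hab (g := z' * z) hm.1 hm.2 hu hu1 (by
    rw [mul_inv_rev, hzi, hzi']
    calc z' * z * u * (z * z') = z' * (z * u * z) * z' := by group
      _ = (z' * u * z')⁻¹ := by rw [h1, mul_inv_rev, mul_inv_rev, hzi']; group
      _ = u := by rw [h2, inv_inv])
  exact (mul_eq_one_iff_inv_eq.mp this).symm.trans hzi' 

/-- The subgroup of index two in the two-point stabiliser. -/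
theorem exists_N (Z : ZGrp G Ω) (hab : a ≠ b)
    (hd : Nat.card ↥(stabilizer G a ⊓ stabilizer G b) = Fintype.card Ω - 2)
    (hev : Even (Fintype.card Ω)) (h6 : 6 ≤ Fintype.card Ω) {c : Ω} (hca : c ≠ a) (hcb : c ≠ b) (s : G)
    (hsa : s • a = b) (hsb : s • b = a) (hsc : s • c = c) :
    ∃ N : Subgroup G, N ≤ stabilizer G a ⊓ stabilizer G b ∧
      N.relIndex (stabilizer G a ⊓ stabilizer G b) = 2 ∧ ∀ n ∈ N, s * n * s⁻¹ ∈ N := by
  classical
  haveI := Z.faith
  let P : Subgroup (Equiv.Perm Ω) := (MulAction.toPermHom G Ω).range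
  let φ : G ≃* P := MonoidHom.ofInjective MulAction.toPerm_injective
  have hsmul : ∀ (g : G) (x : Ω), φ g • x = g • x := fun g x => rfl
  obtain ⟨h3, hsh⟩ := sharp Z hab hd
  have h3' : IsMultiplyPretransitive P Ω 3 := ⟨fun t u => by
    obtain ⟨g, hg⟩ := h3.exists_smul_eq t u
    exact ⟨φ g, Function.Embedding.ext fun i => (hsmul g _).trans (DFunLike.congr_fun hg i)⟩⟩
  have hsh' : ∀ x : Fin 3 ↪ Ω, stabilizer P x = ⊥ := fun x => by
    rw [Subgroup.eq_bot_iff_forall]
    intro p hp
    obtain ⟨g, rfl⟩ := φ.surjective p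
    have : g ∈ stabilizer G x := mem_stabilizer_iff.mpr
      (Function.Embedding.ext fun i => DFunLike.congr_fun (mem_stabilizer_iff.mp hp) i)
    rw [hsh, Subgroup.mem_bot] at this
    rw [this, map_one]
  obtain ⟨N, hN, -, hrel, hs⟩ := S0729.result hev h6 P h3' hsh' hab hca.symm hcb.symm (φ s)
    hsa hsb hsc
  refine ⟨N.comap φ.toMonoidHom, fun g hg => ?_, ?_, fun n hn => ?_⟩
  · have := Subgroup.mem_inf.mp (hN hg)
    exact Subgroup.mem_inf.mpr ⟨mem_stabilizer_iff.mpr this.1, mem_stabilizer_iff.mpr this.2⟩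
  · rw [Subgroup.relIndex_comap]
    convert hrel using 2
    refine Subgroup.ext fun p => ?_
    obtain ⟨g, rfl⟩ := φ.surjective p
    constructor
    · rintro ⟨g', hg', e⟩
      have e' := φ.injective e
      subst e'
      exact hg'
    · exact fun h => ⟨g, h, rfl⟩
  · show φ (s * n * s⁻¹) ∈ N
    rw [map_mul, map_mul, map_inv]
    exact hs _ hn

theorem not_simple_sharp [IsSimpleGroup G] (Z : ZGrp G Ω) (hab : a ≠ b)
    (heven : Even (Nat.card ↥(stabilizer G a ⊓ stabilizer G b)))
    (hd : Nat.card ↥(stabilizer G a ⊓ stabilizer G b) = Fintype.card Ω - 2) : False := by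
  classical
  haveI := Z.faith
  haveI : Fact (Nat.Prime 2) := ⟨Nat.prime_two⟩
  set H := stabilizer G a ⊓ stabilizer G b with hH
  obtain ⟨F, hF⟩ := exists_zker Z hab
  have hG3 : 3 ≤ Nat.card G := by
    have h1 := H.index_mul_card
    rw [card_pairs hab Z] at h1
    have h2 := Z.stab_pos hab
    rw [← hH] at h2
    have h4 : 3 ≤ Fintype.card Ω := by omega
    calc 3 ≤ 3 * 1 * 1 := le_rfl
      _ ≤ Fintype.card Ω * (Fintype.card Ω - 1) * Nat.card H :=
        Nat.mul_le_mul (Nat.mul_le_mul h4 (by omega)) (by omega)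
      _ = Nat.card G := h1
  obtain ⟨z0, hz0⟩ := exists_prime_orderOf_dvd_card' (G := H) 2 (even_iff_two_dvd.mp heven)
  set z : G := (z0 : G) with hz
  have hzz : z * z = 1 := by
    have := congrArg Subtype.val (hz0 ▸ pow_orderOf_eq_one z0)
    simpa [pow_two] using this
  have hz1 : z ≠ 1 := fun e => by
    rw [show z0 = 1 from Subtype.ext e, orderOf_one] at hz0
    exact absurd hz0 (by decide)
  have hpos := Z.stab_pos hab
  rw [← hH] at hpos
  obtain ⟨k, hk⟩ := heven
  by_cases hmod : Fintype.card Ω % 4 = 0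
  · -- an odd permutation of the ordered pairs
    let X : SubMulAction G (Ω × Ω) :=
      { carrier := {p | p.1 ≠ p.2}
        smul_mem' := fun g p hp h => hp (MulAction.injective g h) }
    haveI : Fintype X := Fintype.ofFinite _
    have hcard : Fintype.card X = Fintype.card Ω * (Fintype.card Ω - 1) := by
      rw [← Nat.card_eq_fintype_card]
      show Nat.card {p : Ω × Ω // p.1 ≠ p.2} = _
      rw [Nat.card_eq_fintype_card, Fintype.card_subtype,
        show Finset.univ.filter (fun p : Ω × Ω => p.1 ≠ p.2) = Finset.univ.offDiag by ext; simp,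
        Finset.offDiag_card, Finset.card_univ, Nat.mul_sub, mul_one]
    have hsq : (MulAction.toPermHom G X z) ^ 2 = 1 := by rw [← map_pow, pow_two, hzz, map_one]
    have hza := mem_stabilizer_iff.mp (Subgroup.mem_inf.mp z0.2).1
    have hzb := mem_stabilizer_iff.mp (Subgroup.mem_inf.mp z0.2).2
    have hsupp : (MulAction.toPermHom G X z).supportᶜ =
        ({⟨(a, b), hab⟩, ⟨(b, a), hab.symm⟩} : Finset X) := by
      ext ⟨⟨x, y⟩, hxy⟩
      rw [Finset.mem_compl, Equiv.Perm.notMem_support, Finset.mem_insert, Finset.mem_singleton]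
      show z • (⟨(x, y), hxy⟩ : X) = _ ↔ _
      constructor
      · intro h
        have h1 : z • x = x := congrArg (fun p : X => p.1.1) h
        have h2 : z • y = y := congrArg (fun p : X => p.1.2) h
        have aux : ∀ w : Ω, z • w = w → w = a ∨ w = b := fun w hw => by
          by_contra hne
          push Not at hne
          exact hz1 (semi Z hab z0.2 hne.1 hne.2 hw)
        rcases aux x h1 with rfl | rfl <;> rcases aux y h2 with rfl | rfl
        · exact absurd rfl hxy
        · exact Or.inl rfl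
        · exact Or.inr rfl
        · exact absurd rfl hxy
      · rintro (h | h) <;>
        · obtain ⟨h1, h2⟩ := Prod.mk.inj (congrArg Subtype.val h)
          subst h1; subst h2
          first
            | exact Subtype.ext (Prod.ext hza hzb)
            | exact Subtype.ext (Prod.ext hzb hza)
    have hs2 : (MulAction.toPermHom G X z).support.card + 2 = Fintype.card X := by
      have := Finset.card_add_card_compl (MulAction.toPermHom G X z).support
      rw [hsupp, Finset.card_pair (fun e => hab (congrArg (fun p : X => p.1.1) e))] at this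
      exact this
    obtain ⟨m, hm⟩ : 4 ∣ Fintype.card Ω := Nat.dvd_of_mod_eq_zero hmod
    have hodd : Odd ((MulAction.toPermHom G X z).support.card / 2) := by
      have e : (MulAction.toPermHom G X z).support.card + 2 = 2 * (2 * m * (4 * m - 1)) := by
        rw [hs2, hcard, hm]; ring
      obtain ⟨j, rfl⟩ : ∃ j, m = j + 1 := ⟨m - 1, by omega⟩
      refine ⟨(j + 1) * (4 * (j + 1) - 1) - 1, ?_⟩
      have : 1 ≤ (j + 1) * (4 * (j + 1) - 1) := Nat.one_le_iff_ne_zero.mpr
        (Nat.mul_ne_zero (by omega) (by omega))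
      rw [mul_assoc] at e
      omega
    have h := DFunLike.congr_fun
      (monoidHom_eq_one ((Equiv.Perm.sign).comp (MulAction.toPermHom G X)) hG3) z
    rw [MonoidHom.comp_apply, sign_of_involution _ hsq, hodd.neg_one_pow, MonoidHom.one_apply] at h
    exact absurd h (by decide)
  -- the transfer to the stabiliser of an unordered pair
  obtain ⟨c, hca, hcb⟩ := Z.exists_third a b
  obtain ⟨s, hsa, hsb, hsc⟩ := exists_triple Z hab hd hca hcb hab.symm hcb.symm hca.symm
  have hss : s * s = 1 := Z.three (s * s) a b c hab hcb.symm hca.symm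
    (by rw [mul_smul, hsb, hsa]) (by rw [mul_smul, hsa, hsb]) (by rw [mul_smul, hsc, hsc])
  have hsi : s⁻¹ = s := inv_eq_of_mul_eq_one_right hss
  have hevΩ : Even (Fintype.card Ω) := ⟨k + 1, by omega⟩
  have hΩ2 : Fintype.card Ω % 4 = 2 := by
    obtain ⟨r, hr⟩ := hevΩ
    omega
  obtain ⟨N, hNH, hrel, hsN⟩ := exists_N Z hab hd hevΩ (by omega) hca hcb s hsb hsa hsc
  have hNsub : (N.subgroupOf H).index = 2 := hrel
  have hsN' : ∀ n ∈ N, s * n * s ∈ N := fun n hn => by
    have := hsN n hn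
    rwa [hsi] at this
  have hsH : s ∉ H := fun h => hab ((mem_stabilizer_iff.mp (Subgroup.mem_inf.mp h).1).symm.trans hsb)
  have hmemH : ∀ {g : G}, g ∈ H ↔ g • a = a ∧ g • b = b := fun {g} => by
    rw [hH, Subgroup.mem_inf, mem_stabilizer_iff, mem_stabilizer_iff]
  let W : Subgroup G :=
    { carrier := {g | g ∈ H ∨ s * g ∈ H}
      one_mem' := Or.inl H.one_mem
      mul_mem' := fun {x y} hx hy => by
        have hW : ∀ g, (g ∈ H ∨ s * g ∈ H) ↔ (g • a = a ∧ g • b = b) ∨ (g • a = b ∧ g • b = a) := by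
          intro g
          rw [hmemH, hmemH, mul_smul, mul_smul]
          constructor
          · rintro (h | ⟨h1, h2⟩)
            · exact Or.inl h
            · exact Or.inr ⟨MulAction.injective s (h1.trans hsa.symm), MulAction.injective s (h2.trans hsb.symm)⟩
          · rintro (h | ⟨h1, h2⟩)
            · exact Or.inl h
            · exact Or.inr ⟨by rw [h1, hsa], by rw [h2, hsb]⟩
        rw [Set.mem_setOf_eq, hW] at hx hy ⊢
        rw [mul_smul, mul_smul]
        rcases hx with ⟨x1, x2⟩ | ⟨x1, x2⟩ <;> rcases hy with ⟨y1, y2⟩ | ⟨y1, y2⟩ <;>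
          simp [x1, x2, y1, y2]
      inv_mem' := fun {x} hx => by
        rcases hx with h | h
        · exact Or.inl (H.inv_mem h)
        · refine Or.inr (hmemH.mpr ?_)
          obtain ⟨h1, h2⟩ := hmemH.mp h
          rw [mul_smul] at h1 h2
          have e1 : x • a = b := MulAction.injective s (h1.trans hsa.symm)
          have e2 : x • b = a := MulAction.injective s (h2.trans hsb.symm)
          rw [mul_smul, mul_smul, inv_smul_eq_iff.mpr e2.symm, inv_smul_eq_iff.mpr e1.symm, hsa, hsb]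
          exact ⟨rfl, rfl⟩ }
  have hHW : H ≤ W := fun g hg => Or.inl hg
  let K : Subgroup W :=
    { carrier := {w | (w : G) ∈ N ∨ s * (w : G) ∈ N}
      one_mem' := Or.inl N.one_mem
      mul_mem' := fun {x y} hx hy => by
        rcases hx with hx | hx <;> rcases hy with hy | hy
        · exact Or.inl (N.mul_mem hx hy)
        · refine Or.inr ?_
          have := N.mul_mem (hsN' _ hx) hy
          rw [Subgroup.coe_mul]
          simpa [mul_assoc, ← mul_assoc s s, hss] using this
        · exact Or.inr (by rw [Subgroup.coe_mul, ← mul_assoc]; exact N.mul_mem hx hy)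
        · refine Or.inl ?_
          have := N.mul_mem (hsN' _ hx) hy
          rw [Subgroup.coe_mul]
          simpa [mul_assoc, ← mul_assoc s s, hss] using this
      inv_mem' := fun {x} hx => by
        rcases hx with hx | hx
        · exact Or.inl (N.inv_mem hx)
        · refine Or.inr ?_
          have := hsN' _ (N.inv_mem hx)
          rw [Subgroup.coe_inv]
          simpa [mul_assoc, hss, hsi] using this }
  have hnot : ∀ {x : G}, x ∈ H → ¬ s * x ∈ H := fun {x} hx h => hsH (by
    have := H.mul_mem h (H.inv_mem hx)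
    rwa [mul_inv_cancel_right] at this)
  obtain ⟨a0, ha0⟩ := Subgroup.index_eq_two_iff.mp hNsub
  have hK2 : K.index = 2 := by
    rw [Subgroup.index_eq_two_iff]
    refine ⟨⟨a0, hHW a0.2⟩, fun x => ?_⟩
    show Xor' ((x : G) * a0 ∈ N ∨ s * ((x : G) * a0) ∈ N) ((x : G) ∈ N ∨ s * (x : G) ∈ N)
    rcases x.2 with hx | hx
    · have h' : Xor' ((x : G) * a0 ∈ N) ((x : G) ∈ N) := ha0 ⟨x, hx⟩
      rwa [or_iff_left (fun h => hnot hx (hNH h)),
        or_iff_left (fun h => hnot (H.mul_mem hx a0.2) (hNH h))]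
    · have h' : Xor' ((s * (x : G)) * a0 ∈ N) (s * (x : G) ∈ N) := ha0 ⟨_, hx⟩
      rw [mul_assoc] at h'
      have hx' : ¬ (x : G) ∈ H := fun h => hnot h hx
      rwa [or_iff_right (fun h => hx' (hNH h)),
        or_iff_right (fun h => hx' (by
          have := H.mul_mem (hNH h) (H.inv_mem a0.2)
          rwa [mul_inv_cancel_right] at this))]
  let ε : W →* ℤˣ := MonoidHom.mk' (fun w => if w ∈ K then 1 else -1) fun x y => by
    by_cases hx : x ∈ K <;> by_cases hy : y ∈ K <;>
      simp [Subgroup.mul_mem_iff_of_index_two hK2, hx, hy]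
  have hεH : ∀ (w : W), (w : G) ∈ H → (ε w = 1 ↔ (w : G) ∈ N) := by
    intro w hw
    have hiff : w ∈ K ↔ (w : G) ∈ N :=
      ⟨fun h => h.resolve_right (fun h' => hnot hw (hNH h')), Or.inl⟩
    show (if w ∈ K then (1 : ℤˣ) else -1) = 1 ↔ _
    by_cases h : w ∈ K
    · rw [if_pos h]; exact iff_of_true rfl (hiff.mp h)
    · rw [if_neg h]; exact iff_of_false (by decide) (fun h' => h (hiff.mpr h'))
  -- the involution lies in `N`
  have h4 : 4 ∣ Nat.card H := ⟨(Fintype.card Ω - 2) / 4, by omega⟩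
  have huniq : ∀ {x : G}, x ∈ H → x * x = 1 → x ≠ 1 → x = z :=
    fun {x} hx hx2 hx1 => involution_unique hF Z hab hx hx2 hx1 z0.2 hzz hz1
  have hzN : z ∈ N := by
    have h5 := (N.subgroupOf H).index_mul_card
    rw [hNsub] at h5
    have h6 : 2 ∣ Nat.card (N.subgroupOf H) := by omega
    obtain ⟨w, hw⟩ := exists_prime_orderOf_dvd_card' (G := N.subgroupOf H) 2 h6
    have hw2 : ((w : H) : G) * ((w : H) : G) = 1 := by
      have := congrArg (fun q : N.subgroupOf H => ((q : H) : G)) (hw ▸ pow_orderOf_eq_one w)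
      simpa [pow_two] using this
    rw [← huniq (w : H).2 hw2 (fun e => by
      rw [show w = 1 from Subtype.ext (Subtype.ext e), orderOf_one] at hw
      exact absurd hw (by decide))]
    exact w.2
  obtain ⟨h0, hh0⟩ : ∃ h0 : H, (h0 : G) ∉ N := ⟨a0, fun h => by
    have h' : Xor' ((1 : G) * a0 ∈ N) ((1 : G) ∈ N) := ha0 1
    rw [one_mul] at h'
    rcases h' with ⟨-, h2⟩ | ⟨-, h2⟩
    · exact h2 N.one_mem
    · exact h2 h⟩
  obtain ⟨i, q, hq, hiq⟩ := Nat.exists_eq_two_pow_mul_odd (orderOf_pos (h0 : G)).ne'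
  set h : G := (h0 : G) ^ q with hh
  have hhH : h ∈ H := H.pow_mem h0.2 q
  have hhN : h ∉ N := by
    obtain ⟨j, rfl⟩ := hq
    intro hN'
    have hsq : (h0 : G) ^ 2 ∈ N := by
      have := Subgroup.sq_mem_of_index_two hNsub h0
      exact this
    refine hh0 ?_
    have := N.mul_mem hN' (N.inv_mem (N.pow_mem hsq j))
    rwa [hh, pow_succ', mul_comm 2 j, pow_mul', mul_inv_cancel_right] at this
  have hh2 : h ^ 2 ^ i = 1 := by rw [hh, ← pow_mul, mul_comm, ← hiq, pow_orderOf_eq_one]
  have hpg : IsPGroup 2 (Subgroup.zpowers h) := by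
    refine IsPGroup.iff_card.mpr ?_
    obtain ⟨r, -, hr⟩ := (Nat.dvd_prime_pow Nat.prime_two).mp (orderOf_dvd_of_pow_eq_one hh2)
    exact ⟨r, by rw [Nat.card_zpowers, hr]⟩
  have hh4 : h * h ≠ 1 := fun e => hhN (by
    by_cases h1 : h = 1
    · rw [h1]; exact N.one_mem
    · rw [huniq hhH e h1]; exact hzN)
  have hWindex : Odd W.index := by
    have h1 := card_pairs hab Z
    rw [← hH] at h1
    have h2 : H.relIndex W = 2 := by
      show (H.subgroupOf W).index = 2
      rw [Subgroup.index_eq_two_iff]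
      refine ⟨⟨s, Or.inr (by rw [hss]; exact H.one_mem)⟩, fun x => ?_⟩
      show Xor' ((x : G) * s ∈ H) ((x : G) ∈ H)
      rcases x.2 with hx | hx
      · exact Or.inr ⟨hx, fun h => hsH ((H.mul_mem_cancel_left hx).mp h)⟩
      · refine Or.inl ⟨?_, fun h => hnot h hx⟩
        obtain ⟨e1, e2⟩ := hmemH.mp hx
        rw [mul_smul] at e1 e2
        rw [hmemH, mul_smul, mul_smul, hsa, hsb]
        exact ⟨MulAction.injective s (e2.trans hsb.symm), MulAction.injective s (e1.trans hsa.symm)⟩
    rw [← Subgroup.relIndex_mul_index hHW, h2] at h1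
    have hm1 : (Fintype.card Ω / 2) % 2 = 1 := by omega
    have e : Fintype.card Ω = 2 * (Fintype.card Ω / 2) := by omega
    rw [e, mul_assoc] at h1
    rw [Nat.eq_of_mul_eq_mul_left two_pos h1]
    exact (Nat.odd_iff.mpr hm1).mul (Nat.odd_iff.mpr (by omega))
  have key : ∀ (g y : G), y ∈ H → y ≠ 1 → g⁻¹ * y * g ∈ H → g ∈ W := by
    intro g y hy hy1 hgy
    obtain ⟨e1, e2⟩ := hmemH.mp hgy
    rw [mul_smul, mul_smul, inv_smul_eq_iff] at e1 e2
    have aux : ∀ {w : Ω}, y • w = w → w = a ∨ w = b := fun {w} hw => by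
      by_contra hne
      push Not at hne
      exact hy1 (semi Z hab hy hne.1 hne.2 hw)
    rcases aux e1 with h1 | h1 <;> rcases aux e2 with h2 | h2
    · exact absurd (MulAction.injective g (h1.trans h2.symm)) hab
    · exact Or.inl (hmemH.mpr ⟨h1, h2⟩)
    · refine Or.inr (hmemH.mpr ?_)
      rw [mul_smul, mul_smul, h1, h2, hsa, hsb]
      exact ⟨rfl, rfl⟩
    · exact absurd (MulAction.injective g (h1.trans h2.symm)) hab
  have hconj : ∀ (g y : G) (hy : y ∈ H) (hgW : g ∈ W) (hm : g⁻¹ * y * g ∈ W),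
      ε ⟨_, hm⟩ = ε ⟨y, hHW hy⟩ := by
    intro g y hy hgW hm
    have e : (⟨g⁻¹ * y * g, hm⟩ : W) = ⟨g, hgW⟩⁻¹ * ⟨y, hHW hy⟩ * ⟨g, hgW⟩ := rfl
    rw [e, map_mul, map_mul, map_inv, mul_comm (ε ⟨g, hgW⟩)⁻¹, inv_mul_cancel_right]
  have hεh : ε ⟨h, hHW hhH⟩ = -1 :=
    (Int.units_eq_one_or _).resolve_left fun e => hhN ((hεH ⟨h, hHW hhH⟩ hhH).mp e)
  have hswap : ∀ {y : G}, y ∈ W → y ∉ H → y * y ∈ H := by
    intro y hy hyH
    obtain ⟨e1, e2⟩ := hmemH.mp (hy.resolve_left hyH)
    rw [mul_smul] at e1 e2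
    have f1 : y • a = b := MulAction.injective s (e1.trans hsa.symm)
    have f2 : y • b = a := MulAction.injective s (e2.trans hsb.symm)
    exact hmemH.mpr ⟨by rw [mul_smul, f1, f2], by rw [mul_smul, f2, f1]⟩
  have t := transfer_eq_neg_one W hWindex ε h hpg ?_ ?_
  · have := DFunLike.congr_fun (monoidHom_eq_one (MonoidHom.transfer ε) hG3) h
    rw [t, MonoidHom.one_apply] at this
    exact absurd this (by decide)
  · intro g hm
    have hgW : g ∈ W := by
      by_cases hy : g⁻¹ * h * g ∈ H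
      · exact key g h hhH (fun e => hh4 (by rw [e, mul_one])) hy
      · exfalso
        have e : g⁻¹ * h * g * (g⁻¹ * h * g) = g⁻¹ * (h * h) * g := by group
        have hgW := key g (h * h) (H.mul_mem hhH hhH) hh4 (e ▸ hswap hm hy)
        rcases W.mul_mem (W.mul_mem hgW hm) (W.inv_mem hgW) with h' | h' <;>
          rw [show g * (g⁻¹ * h * g) * g⁻¹ = h by group] at h'
        · obtain ⟨e1, e2⟩ := hmemH.mp hhH
          have hgH : ∀ {g : G}, g ∈ W → ∀ {y : G}, y ∈ H → g⁻¹ * y * g ∈ H := by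
            intro g hg y hy
            obtain ⟨y1, y2⟩ := hmemH.mp hy
            rw [hmemH, mul_smul, mul_smul, mul_smul, mul_smul, inv_smul_eq_iff, inv_smul_eq_iff]
            rcases hg with hg | hg
            · obtain ⟨g1, g2⟩ := hmemH.mp hg
              rw [g1, g2]; exact ⟨y1, y2⟩
            · obtain ⟨g1, g2⟩ := hmemH.mp hg
              rw [mul_smul] at g1 g2
              rw [MulAction.injective s (g1.trans hsa.symm), MulAction.injective s (g2.trans hsb.symm)]
              exact ⟨y2, y1⟩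
          exact hy (hgH hgW hhH)
        · exact hnot hhH h'
    rw [hconj g h hhH hgW hm]
    exact hεh
  · intro g j hm
    set y := h ^ 2 ^ (j + 1) with hy
    have hyH : y ∈ H := H.pow_mem hhH _
    by_cases hy1 : y = 1
    · have e : (⟨g⁻¹ * y * g, hm⟩ : W) = 1 := Subtype.ext (by
        show g⁻¹ * y * g = 1
        rw [hy1]; group)
      rw [e, map_one]
    by_cases hmH : g⁻¹ * y * g ∈ H
    · have hgW := key g y hyH hy1 hmH
      rw [hconj g y hyH hgW hm, show (⟨y, hHW hyH⟩ : W) = ⟨h, hHW hhH⟩ ^ 2 ^ (j + 1) from rfl,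
        map_pow, hεh]
      exact Even.neg_one_pow ⟨2 ^ j, by rw [pow_succ]; ring⟩
    · have e : g⁻¹ * y * g * (g⁻¹ * y * g) = g⁻¹ * (y * y) * g := by group
      have hyy : y * y = 1 := by
        by_contra hne
        have hgW := key g (y * y) (H.mul_mem hyH hyH) hne (e ▸ hswap hm hmH)
        rcases W.mul_mem (W.mul_mem hgW hm) (W.inv_mem hgW) with h' | h' <;>
          rw [show g * (g⁻¹ * y * g) * g⁻¹ = y by group] at h'
        · refine hmH ?_
          obtain ⟨y1, y2⟩ := hmemH.mp hyH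
          rw [hmemH, mul_smul, mul_smul, mul_smul, mul_smul, inv_smul_eq_iff, inv_smul_eq_iff]
          rcases hgW with hg | hg
          · obtain ⟨g1, g2⟩ := hmemH.mp hg
            rw [g1, g2]; exact ⟨y1, y2⟩
          · obtain ⟨g1, g2⟩ := hmemH.mp hg
            rw [mul_smul] at g1 g2
            rw [MulAction.injective s (g1.trans hsa.symm), MulAction.injective s (g2.trans hsb.symm)]
            exact ⟨y2, y1⟩
        · exact hnot hyH h'
      set w := g⁻¹ * y * g with hw
      obtain ⟨f1, f2⟩ := hmemH.mp (hm.resolve_left hmH)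
      rw [mul_smul] at f1 f2
      have w1 : w • a = b := MulAction.injective s (f1.trans hsa.symm)
      have w2 : w • b = a := MulAction.injective s (f2.trans hsb.symm)
      have hwc : w • (g⁻¹ • a) = g⁻¹ • a := by
        rw [hw, mul_smul, smul_inv_smul, mul_smul, (hmemH.mp hyH).1]
      have d1 : g⁻¹ • a ≠ a := fun e' => hab.symm (w1.symm.trans (e' ▸ hwc))
      have d2 : g⁻¹ • a ≠ b := fun e' => hab (w2.symm.trans (e' ▸ hwc))
      obtain ⟨q', q1, q2, q3⟩ :=
        exists_triple Z hab hd d1 d2 hab hca.symm hcb.symm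
      have hqH : q' ∈ H := hmemH.mpr ⟨q1, q2⟩
      have hwq : w = q' * s * q'⁻¹ := by
        have h := Z.three ((q' * s * q'⁻¹)⁻¹ * w) a b (g⁻¹ • a) hab d2.symm d1.symm ?_ ?_ ?_
        · exact (inv_mul_eq_one.mp h).symm
        · rw [mul_smul, inv_smul_eq_iff, w1, mul_smul, mul_smul, inv_smul_eq_iff.mpr q1.symm, hsb, q2]
        · rw [mul_smul, inv_smul_eq_iff, w2, mul_smul, mul_smul, inv_smul_eq_iff.mpr q2.symm, hsa, q1]
        · rw [mul_smul, inv_smul_eq_iff, hwc, mul_smul, mul_smul, inv_smul_eq_iff.mpr q3.symm, hsc, q3]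
      have hsW : s ∈ W := Or.inr (by rw [hss]; exact H.one_mem)
      have hεs : ε ⟨s, hsW⟩ = 1 := by
        show (if (⟨s, hsW⟩ : W) ∈ K then (1 : ℤˣ) else -1) = 1
        rw [if_pos]
        exact Or.inr (by show s * s ∈ N; rw [hss]; exact N.one_mem)
      have e2 : (⟨w, hm⟩ : W) = ⟨q', hHW hqH⟩ * ⟨s, hsW⟩ * ⟨q', hHW hqH⟩⁻¹ := Subtype.ext hwq
      rw [e2, map_mul, map_mul, map_inv, hεs, mul_one, mul_inv_cancel]

end Cfsg.Agent.ZassSharp
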